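import Groth.Agent.ArtLift.Basic
import Groth.Agent.FibrewiseCrit.Pointwise

/-!
Morphisms from spectra of Artinian local rings.
-/

set_option linter.style.haveILetI false

universe u

open CategoryTheory AlgebraicGeometry IsLocalRing

namespace Groth.Agent.ArtLift

theorem finiteType_of_residue {R B : Type u} [CommRing R] [CommRing B] [IsLocalRing B] [IsArtinianRing B]
    (r : R →+* B) (h : ((residue B).comp r).FiniteType) : r.FiniteType := by
  classical
  letI := r.toAlgebra
  letI : Algebra R (ResidueField B) := ((residue B).comp r).toAlgebra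
  obtain ⟨s, hs⟩ := (show Algebra.FiniteType R (ResidueField B) from h).out
  choose lift hlift using fun z : ResidueField B => residue_surjective z
  obtain ⟨t, ht⟩ := IsNoetherian.noetherian (maximalIdeal B)
  let C := Algebra.adjoin R (((s.image lift) ∪ t : Finset B) : Set B)
  have htC : ∀ g ∈ t, g ∈ C := fun g hg => Algebra.subset_adjoin (Finset.mem_union_right _ hg)
  let π : B →ₐ[R] ResidueField B := { residue B with commutes' := fun _ => rfl }
  have h0 : ∀ b : B, ∃ c ∈ C, b - c ∈ maximalIdeal B := by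
    intro b
    have hb : residue B b ∈ C.map π := by
      have h1 : Algebra.adjoin R (s : Set (ResidueField B)) ≤ C.map π := Algebra.adjoin_le fun z hz =>
        ⟨lift z, Algebra.subset_adjoin (Finset.mem_union_left _ (Finset.mem_image_of_mem lift hz)), hlift z⟩
      rw [hs] at h1
      exact h1 Algebra.mem_top
    obtain ⟨c, hc, hcb⟩ := hb
    exact ⟨c, hc, (residue_eq_zero_iff _).1 (by rw [map_sub, ← hcb]; exact sub_self _)⟩
  have hi : ∀ i : ℕ, ∀ b ∈ maximalIdeal B ^ i, ∃ c ∈ C, b - c ∈ maximalIdeal B ^ (i + 1) := by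
    intro i
    induction i with
    | zero => intro b _; obtain ⟨c, hc, hcb⟩ := h0 b; exact ⟨c, hc, by rwa [pow_one]⟩
    | succ i ih =>
      intro b hb
      rw [pow_succ] at hb
      refine Submodule.mul_induction_on hb (fun x hx y hy => ?_) (fun x y hx hy => ?_)
      · rw [← ht] at hy
        induction hy using Submodule.span_induction generalizing x with
        | mem g hg =>
          obtain ⟨c, hc, hxc⟩ := ih x hx
          refine ⟨c * g, mul_mem hc (htC g hg), ?_⟩
          rw [← sub_mul, pow_succ]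
          exact Ideal.mul_mem_mul hxc (ht ▸ Submodule.subset_span hg)
        | zero => exact ⟨0, zero_mem _, by rw [mul_zero, sub_zero]; exact zero_mem _⟩
        | add y z _ _ hy hz =>
          obtain ⟨c, hc, h1⟩ := hy x hx
          obtain ⟨d, hd, h2⟩ := hz x hx
          refine ⟨c + d, add_mem hc hd, ?_⟩
          rw [show x * (y + z) - (c + d) = (x * y - c) + (x * z - d) by ring]
          exact add_mem h1 h2
        | smul a y _ hy =>
          obtain ⟨c, hc, h1⟩ := hy (x * a) (Ideal.mul_mem_right a _ hx)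
          exact ⟨c, hc, by rw [smul_eq_mul, ← mul_assoc]; exact h1⟩
      · obtain ⟨c, hc, h1⟩ := hx
        obtain ⟨d, hd, h2⟩ := hy
        exact ⟨c + d, add_mem hc hd, by rw [show x + y - (c + d) = (x - c) + (y - d) by ring]; exact add_mem h1 h2⟩
  have hall : ∀ i : ℕ, ∀ b : B, ∃ c ∈ C, b - c ∈ maximalIdeal B ^ i := by
    intro i
    induction i with
    | zero => intro b; exact ⟨0, zero_mem _, by simp⟩
    | succ i ih =>
      intro b
      obtain ⟨c, hc, h1⟩ := ih b
      obtain ⟨d, hd, h2⟩ := hi i _ h1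
      exact ⟨c + d, add_mem hc hd, by rwa [← sub_sub]⟩
  obtain ⟨n, hn⟩ := IsArtinianRing.isNilpotent_jacobson_bot (R := B)
  rw [jacobson_eq_maximalIdeal ⊥ bot_ne_top] at hn
  refine ⟨⟨s.image lift ∪ t, eq_top_iff.2 fun b _ => ?_⟩⟩
  obtain ⟨c, hc, h1⟩ := hall n b
  rw [hn] at h1
  rw [sub_eq_zero.1 (show b - c = 0 from h1)]
  exact hc

variable {X : Scheme.{u}}

theorem specStalk_inj {R : CommRingCat.{u}} [IsLocalRing R] {x : X} (a b : X.presheaf.stalk x ⟶ R)
    [ha : IsLocalHom a.hom] [hb : IsLocalHom b.hom]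
    (h : Spec.map a ≫ X.fromSpecStalk x = Spec.map b ≫ X.fromSpecStalk x) : a = b := by
  have h1 : (⟨x, ⟨a, ha⟩⟩ : Σ z, { g : X.presheaf.stalk z ⟶ R // IsLocalHom g.hom }) = ⟨x, ⟨b, hb⟩⟩ :=
    (SpecToEquivOfLocalRing X R).symm.injective h
  exact congrArg Subtype.val (eq_of_heq (Sigma.mk.inj h1).2)

theorem exists_specStalk {R : CommRingCat.{u}} [IsLocalRing R] (g : Spec R ⟶ X) {x : X}
    (hx : g (closedPoint R) = x) :
    ∃ a : X.presheaf.stalk x ⟶ R, IsLocalHom a.hom ∧ g = Spec.map a ≫ X.fromSpecStalk x := by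
  subst hx
  exact ⟨Scheme.stalkClosedPointTo g, inferInstance, (Scheme.Spec_stalkClosedPointTo_fromSpecStalk g).symm⟩

variable {S : Scheme.{u}}

/-- Points closed in an affine open give morphisms locally of finite type. -/
theorem locallyOfFiniteType_specStalk (f : X ⟶ S) [LocallyOfFiniteType f] {V : X.Opens} (hV : IsAffineOpen V)
    (x : X) (hxV : x ∈ V) (hm : (hV.primeIdealOf ⟨x, hxV⟩).asIdeal.IsMaximal)
    {B : Type u} [CommRing B] [IsLocalRing B] [IsArtinianRing B] (I : Ideal B)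
    (g₀ : X.presheaf.stalk x →+* B ⧸ I) (h : S.presheaf.stalk (f x) →+* B)
    (hc : g₀.comp (f.stalkMap x).hom = (Ideal.Quotient.mk I).comp h)
    (hloc : ∀ b ∈ maximalIdeal (X.presheaf.stalk x), g₀ b ∈ (maximalIdeal B).map (Ideal.Quotient.mk I))
    (hsurj : ∀ a' : B, ∃ b, g₀ b - Ideal.Quotient.mk I a' ∈ (maximalIdeal B).map (Ideal.Quotient.mk I))
    (hI : I ≤ maximalIdeal B) :
    LocallyOfFiniteType (Spec.map (CommRingCat.ofHom h) ≫ S.fromSpecStalk (f x)) := by
  obtain ⟨_, ⟨W, hW, rfl⟩, hxW, -⟩ :=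
    S.isBasis_affineOpens.exists_subset_of_mem_open (Set.mem_univ (f x)) isOpen_univ
  rw [← hW.fromSpecStalk_eq_fromSpecStalk hxW]
  have : IsAffineOpen.fromSpecStalk hW hxW = Spec.map (S.presheaf.germ W (f x) hxW) ≫ hW.fromSpec := rfl
  rw [this, ← Category.assoc, ← Spec.map_comp]
  suffices hr : (h.comp (S.presheaf.germ W (f x) hxW).hom).FiniteType by
    haveI : LocallyOfFiniteType (Spec.map (S.presheaf.germ W (f x) hxW ≫ CommRingCat.ofHom h)) :=
      (HasRingHomProperty.Spec_iff (P := @LocallyOfFiniteType)).2 hr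
    haveI : IsOpenImmersion hW.fromSpec := hW.isOpenImmersion_fromSpec
    exact MorphismProperty.comp_mem @LocallyOfFiniteType _ _ ‹_› (locallyOfFiniteType_of_isOpenImmersion _)
  refine finiteType_of_residue _ ?_
  obtain ⟨f', hf', hxf, hle⟩ : ∃ f' : Γ(X, V), f' ∉ (hV.primeIdealOf ⟨x, hxV⟩).asIdeal ∧
      x ∈ X.basicOpen f' ∧ X.basicOpen f' ≤ V ⊓ f ⁻¹ᵁ W := by
    obtain ⟨f', hle, hxf⟩ := hV.exists_basicOpen_le (V := V ⊓ f ⁻¹ᵁ W) ⟨x, hxV, hxW⟩ hxV
    refine ⟨f', fun hf' => ?_, hxf, hle⟩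
    have := hV.fromSpec_primeIdealOf ⟨x, hxV⟩
    have h2 : hV.primeIdealOf ⟨x, hxV⟩ ∈ PrimeSpectrum.basicOpen f' := by
      rw [← hV.fromSpec_preimage_basicOpen f']
      show hV.fromSpec _ ∈ X.basicOpen f'
      rw [this]; exact hxf
    exact h2 hf'
  let V' := X.basicOpen f'
  have hV' : IsAffineOpen V' := hV.basicOpen f'
  have e : V' ≤ f ⁻¹ᵁ W := fun z hz => (hle hz).2
  let q : B ⧸ I →+* ResidueField B := Ideal.Quotient.lift I (residue B) fun a ha =>
    (residue_eq_zero_iff a).2 (hI ha)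
  have hq : (residue B).comp (h.comp (S.presheaf.germ W (f x) hxW).hom) =
      ((q.comp g₀).comp (X.presheaf.germ V' x hxf).hom).comp (f.appLE W V' e).hom := by
    have h1 : f.appLE W V' e ≫ X.presheaf.germ V' x hxf = S.presheaf.germ W (f x) hxW ≫ f.stalkMap x := by
      rw [Scheme.Hom.germ_stalkMap, Scheme.Hom.appLE, Category.assoc, TopCat.Presheaf.germ_res]
    ext z
    simp only [RingHom.comp_apply]
    rw [show (X.presheaf.germ V' x hxf).hom ((f.appLE W V' e).hom z) =
      (f.stalkMap x).hom ((S.presheaf.germ W (f x) hxW).hom z) from congrArg (fun g => g.hom z) h1]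
    rw [show g₀ ((f.stalkMap x).hom ((S.presheaf.germ W (f x) hxW).hom z)) =
      Ideal.Quotient.mk I (h ((S.presheaf.germ W (f x) hxW).hom z)) from RingHom.congr_fun hc _]
    rfl
  rw [hq]
  refine RingHom.FiniteType.comp (RingHom.FiniteType.of_surjective _ ?_) (f.finiteType_appLE hW hV' e)
  have hmem : ∀ {w : B ⧸ I}, w ∈ (maximalIdeal B).map (Ideal.Quotient.mk I) → q w = 0 := fun {w} hw => by
    obtain ⟨a, ha, rfl⟩ := (Ideal.mem_map_iff_of_surjective _ Ideal.Quotient.mk_surjective).1 hw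
    exact (residue_eq_zero_iff a).2 ha
  intro z
  obtain ⟨a, rfl⟩ := residue_surjective z
  obtain ⟨b, hb⟩ := hsurj a
  have hb' : q (g₀ b) = residue B a := sub_eq_zero.1 (by
    have := hmem hb
    rwa [map_sub] at this)
  letI : Algebra Γ(X, V) (X.presheaf.stalk x) := (X.presheaf.germ V x hxV).hom.toAlgebra
  haveI : IsLocalization.AtPrime (X.presheaf.stalk x) (hV.primeIdealOf ⟨x, hxV⟩).asIdeal :=
    hV.isLocalization_stalk ⟨x, hxV⟩
  obtain ⟨w, hw⟩ : ∃ w : Γ(X, V), (X.presheaf.germ V x hxV).hom w - b ∈ maximalIdeal (X.presheaf.stalk x) := by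
    haveI := hm
    obtain ⟨v, s, rfl⟩ := IsLocalization.exists_mk'_eq (hV.primeIdealOf ⟨x, hxV⟩).asIdeal.primeCompl b
    obtain ⟨c, i, hi, hci⟩ := hm.exists_inv s.2
    refine ⟨v * c, ?_⟩
    have hs : IsUnit (algebraMap Γ(X, V) (X.presheaf.stalk x) s) := IsLocalization.map_units _ s
    rw [← residue_eq_zero_iff, map_sub, sub_eq_zero]
    refine (hs.map (residue _)).mul_left_inj.1 ?_
    rw [← map_mul, ← map_mul, IsLocalization.mk'_spec]
    show residue _ (algebraMap Γ(X, V) (X.presheaf.stalk x) (v * c) * algebraMap _ _ (s : Γ(X, V))) = _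
    rw [← map_mul, ← sub_eq_zero, ← map_sub, residue_eq_zero_iff, ← map_sub,
      IsLocalization.AtPrime.to_map_mem_maximal_iff (X.presheaf.stalk x) (hV.primeIdealOf ⟨x, hxV⟩).asIdeal]
    rw [show v * c * (s : Γ(X, V)) - v = -(v * i) by linear_combination v * hci]
    exact neg_mem (Ideal.mul_mem_left _ v hi)
  refine ⟨X.presheaf.map (homOfLE (X.basicOpen_le f')).op w, ?_⟩
  simp only [RingHom.comp_apply]
  rw [show (X.presheaf.germ V' x hxf).hom ((X.presheaf.map (homOfLE (X.basicOpen_le f')).op) w) =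
    (X.presheaf.germ V x hxV).hom w from TopCat.Presheaf.germ_res_apply _ _ _ _ _, ← hb', ← sub_eq_zero, ← map_sub,
    ← map_sub]
  exact hmem (hloc _ hw)

end Groth.Agent.ArtLift
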